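import Mathlib

set_option autoImplicit false
universe u

namespace Groth.Agent.Elem8

theorem limit_system_finite (A : Type u) [CommRing A] (I : Ideal A)
    [IsAdicComplete I A] (M : ℕ → Type u) [∀ n, AddCommGroup (M n)] [∀ n, Module A (M n)]
    [∀ n, Module.Finite A (M n)] (f : ∀ n, M (n + 1) →ₗ[A] M n) (hf : ∀ n, Function.Surjective (f n))
    (hk : ∀ n, I ^ (n + 1) • (⊤ : Submodule A (M n)) = ⊥)
    (hker : ∀ n, LinearMap.ker (f n) = I ^ (n + 1) • (⊤ : Submodule A (M (n + 1))))
    (L : Submodule A (∀ n, M n)) (hL : ∀ x : ∀ n, M n, x ∈ L ↔ ∀ n, f n (x (n + 1)) = x n) :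
    Module.Finite A L ∧ ∀ n, Function.Surjective ((LinearMap.proj n).comp L.subtype : L →ₗ[A] M n) ∧
      LinearMap.ker ((LinearMap.proj n).comp L.subtype : L →ₗ[A] M n) = I ^ (n + 1) • (⊤ : Submodule A L) := by
  classical
  obtain ⟨r, g₀, hg₀⟩ := Module.Finite.exists_fin' A (M 0)
  let lift : M 0 → ∀ n, M n := fun y n => Nat.rec y (fun m z => Function.surjInv (hf m) z) n
  have hlift : ∀ y, lift y ∈ L := fun y => (hL _).mpr fun n => Function.surjInv_eq (hf n) _
  let gen : Fin r → L := fun i => ⟨lift (g₀ (Pi.single i 1)), hlift _⟩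
  let φ : (Fin r → A) →ₗ[A] L := Fintype.linearCombination A gen
  let φn : ∀ n, (Fin r → A) →ₗ[A] M n := fun n => (LinearMap.proj n).comp (L.subtype.comp φ)
  have hstep : ∀ n a, f n (φn (n + 1) a) = φn n a := fun n a => (hL _).mp (φ a).2 n
  have hφn : ∀ n a, φn n a = ∑ i, a i • (gen i : ∀ n, M n) n := by
    intro n a
    simp [φn, φ, Fintype.linearCombination_apply, Finset.sum_apply]
  have hsurj : ∀ n, Function.Surjective (φn n) := by
    intro n
    induction n with
    | zero =>
      intro y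
      obtain ⟨a, rfl⟩ := hg₀ y
      refine ⟨a, ?_⟩
      rw [hφn]
      conv_rhs => rw [pi_eq_sum_univ' a, map_sum]
      simp [gen, lift]
    | succ n ih =>
      rw [← LinearMap.range_eq_top, eq_top_iff]
      have h1 : (⊤ : Submodule A (M (n + 1))) ≤ LinearMap.range (φn (n + 1)) ⊔ I ^ (n + 1) • ⊤ := by
        intro y _
        obtain ⟨a, ha⟩ := ih (f n y)
        refine Submodule.mem_sup.mpr ⟨_, ⟨a, rfl⟩, y - φn (n + 1) a, ?_, add_sub_cancel _ _⟩
        rw [← hker, LinearMap.mem_ker, map_sub, hstep, ha, sub_self]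
      have h2 : I ^ (n + 1) • (⊤ : Submodule A (M (n + 1))) ≤ LinearMap.range (φn (n + 1)) := by
        calc I ^ (n + 1) • (⊤ : Submodule A (M (n + 1)))
            ≤ I ^ (n + 1) • (LinearMap.range (φn (n + 1)) ⊔ I ^ (n + 1) • ⊤) := Submodule.smul_mono le_rfl h1
          _ ≤ LinearMap.range (φn (n + 1)) := by
            rw [Submodule.smul_sup, sup_le_iff]
            refine ⟨Submodule.smul_le_right, ?_⟩
            rw [← Submodule.smul_assoc, smul_eq_mul, ← pow_add]
            refine (Submodule.smul_mono_left (Ideal.pow_le_pow_right (by omega : n + 1 + 1 ≤ n + 1 + (n + 1)))).trans ?_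
            rw [hk]
            exact bot_le
      exact h1.trans (sup_le le_rfl h2)
  have hzero : ∀ n a, (∀ i, a i ∈ I ^ (n + 1)) → φn n a = 0 := by
    intro n a ha
    rw [hφn]
    refine Finset.sum_eq_zero fun i _ => ?_
    have := Submodule.smul_mem_smul (ha i) (Submodule.mem_top (R := A) (x := (gen i : ∀ n, M n) n))
    rwa [hk, Submodule.mem_bot] at this
  have hcorr : ∀ n, ∀ d ∈ I ^ (n + 1) • (⊤ : Submodule A (M (n + 1))),
      ∃ c : Fin r → A, (∀ i, c i ∈ I ^ (n + 1)) ∧ φn (n + 1) c = d := by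
    intro n d hd
    refine Submodule.smul_induction_on hd (fun s hs y _ => ?_) ?_
    · obtain ⟨c, rfl⟩ := hsurj (n + 1) y
      exact ⟨s • c, fun i => Ideal.mul_mem_right _ _ hs, map_smul _ _ _⟩
    · rintro d₁ d₂ ⟨c₁, h₁, e₁⟩ ⟨c₂, h₂, e₂⟩
      exact ⟨c₁ + c₂, fun i => add_mem (h₁ i) (h₂ i), by rw [map_add, e₁, e₂]⟩
  have main : ∀ (x : L) (n₀ : ℕ) (a₀ : Fin r → A), φn n₀ a₀ = (x : ∀ n, M n) n₀ →
      ∃ a, φ a = x ∧ ∀ i, a i - a₀ i ∈ I ^ (n₀ + 1) := by
    intro x n₀ a₀ ha₀
    have hx := (hL _).mp x.2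
    have hex : ∀ k (b : Fin r → A), φn (n₀ + k) b = (x : ∀ n, M n) (n₀ + k) →
        ∃ b', φn (n₀ + k + 1) b' = (x : ∀ n, M n) (n₀ + k + 1) ∧ ∀ i, b' i - b i ∈ I ^ (n₀ + k + 1) := by
      intro k b hb
      obtain ⟨c, hc, hce⟩ := hcorr (n₀ + k) ((x : ∀ n, M n) (n₀ + k + 1) - φn (n₀ + k + 1) b) (by
        rw [← hker, LinearMap.mem_ker, map_sub, hx, hstep, hb, sub_self])
      exact ⟨b + c, by rw [map_add, hce, add_sub_cancel], fun i => by simpa using hc i⟩
    choose next hn1 hn2 using hex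
    let bs : ∀ k, {b : Fin r → A // φn (n₀ + k) b = (x : ∀ n, M n) (n₀ + k)} := fun k =>
      Nat.rec ⟨a₀, ha₀⟩ (fun k b => ⟨next k b.1 b.2, hn1 k b.1 b.2⟩) k
    have hbs : ∀ k i, (bs (k + 1)).1 i - (bs k).1 i ∈ I ^ (n₀ + k + 1) := fun k i => hn2 k _ (bs k).2 i
    have hcauchy : ∀ i {j k : ℕ}, j ≤ k → (bs k).1 i - (bs j).1 i ∈ I ^ (n₀ + j + 1) := by
      intro i j k hjk
      induction hjk with
      | refl => simp
      | @step k hjk ih =>
        have h2 := Ideal.pow_le_pow_right (I := I) (by simp only [Nat.le_eq] at hjk; omega : n₀ + j + 1 ≤ n₀ + k + 1) (hbs k i)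
        have := add_mem h2 ih
        simpa using this
    have hlim : ∀ i, ∃ l : A, ∀ k, l - (bs k).1 i ∈ I ^ (n₀ + k + 1) := by
      intro i
      obtain ⟨l, hl⟩ := IsPrecomplete.prec (inferInstance : IsPrecomplete I A) (f := fun k => (bs k).1 i) (by
        intro j k hjk
        rw [SModEq.sub_mem, smul_eq_mul, Ideal.mul_top, ← neg_sub]
        exact neg_mem (Ideal.pow_le_pow_right (by omega) (hcauchy i hjk)))
      refine ⟨l, fun k => ?_⟩
      have h1 := hl (n₀ + k + 1)
      rw [SModEq.sub_mem, smul_eq_mul, Ideal.mul_top] at h1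
      have h2 := hcauchy i (show k ≤ n₀ + k + 1 by omega)
      have := sub_mem h2 h1
      simpa using this
    choose l hl using hlim
    refine ⟨l, ?_, fun i => hl i 0⟩
    have hge : ∀ k, φn (n₀ + k) l = (x : ∀ n, M n) (n₀ + k) := by
      intro k
      rw [← (bs k).2, ← sub_eq_zero, ← map_sub]
      exact hzero _ _ fun i => hl i k
    apply Subtype.ext
    funext m
    show φn m l = _
    have hall : ∀ k m, φn (m + k) l = (x : ∀ n, M n) (m + k) → φn m l = (x : ∀ n, M n) m := by
      intro k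
      induction k with
      | zero => exact fun m h => h
      | succ k ih =>
        intro m h
        refine ih m ?_
        rw [← hstep, ← hx]
        exact congrArg (f (m + k)) h
    refine hall n₀ m ?_
    rw [Nat.add_comm]
    exact hge m
  refine ⟨Module.Finite.of_surjective φ fun x => ?_, fun n => ⟨fun y => ?_, ?_⟩⟩
  · obtain ⟨a₀, ha₀⟩ := hsurj 0 ((x : ∀ n, M n) 0)
    obtain ⟨a, ha, -⟩ := main x 0 a₀ ha₀
    exact ⟨a, ha⟩
  · obtain ⟨a, ha⟩ := hsurj n y
    exact ⟨φ a, ha⟩
  · refine le_antisymm (fun x hx => ?_) ?_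
    · obtain ⟨a, ha, hai⟩ := main x n 0 (by rw [map_zero]; exact (LinearMap.mem_ker.mp hx).symm)
      rw [← ha, Fintype.linearCombination_apply]
      exact Submodule.sum_mem _ fun i _ => Submodule.smul_mem_smul (by simpa using hai i) Submodule.mem_top
    · rw [Submodule.smul_le]
      intro s hs x _
      rw [LinearMap.mem_ker, map_smul]
      have := Submodule.smul_mem_smul hs (Submodule.mem_top (R := A) (x := (x : ∀ n, M n) n))
      rwa [hk, Submodule.mem_bot] at this

theorem local_power (A : Type u) [CommRing A] [IsDomain A]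
    [IsNoetherianRing A] [IsIntegrallyClosed A] (z : A) (hz : (Ideal.span {z}).radical.IsPrime) :
    ∃ (w t : A) (r : ℕ), w ∉ (Ideal.span {z}).radical ∧
      Ideal.span {algebraMap A (Localization.Away w) z} =
        Ideal.span {algebraMap A (Localization.Away w) t ^ r} ∧
      (Ideal.span {algebraMap A (Localization.Away w) t}).IsPrime := by
  classical
  by_cases hz0 : z = 0
  · refine ⟨1, 0, 1, (Ideal.ne_top_iff_one _).mp hz.ne_top, by simp [hz0], ?_⟩
    haveI : IsDomain (Localization.Away (1 : A)) :=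
      IsLocalization.isDomain_localization (powers_le_nonZeroDivisors_of_noZeroDivisors one_ne_zero)
    simpa using Ideal.isPrime_bot
  set p := (Ideal.span {z}).radical with hp
  haveI := hz
  have hzp : z ∈ p := Ideal.le_radical (Ideal.mem_span_singleton_self z)
  have hp0 : p ≠ ⊥ := fun h => hz0 (by simpa [h] using hzp)
  have hmin : p ∈ (Ideal.span {z}).minimalPrimes :=
    ⟨⟨hz, Ideal.le_radical⟩, fun q hq _ => hq.1.radical_le_iff.mpr hq.2⟩
  let S := Localization.AtPrime p
  have hnfield : ¬ IsField S := fun h => hz0 (by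
    have h1 : algebraMap A S z ∈ IsLocalRing.maximalIdeal S :=
      (IsLocalization.AtPrime.to_map_mem_maximal_iff S p z).mpr hzp
    rw [IsLocalRing.isField_iff_maximalIdeal_eq.mp h, Ideal.mem_bot] at h1
    exact (FaithfulSMul.algebraMap_eq_zero_iff A S).mp h1)
  have hdvr : IsDiscreteValuationRing S := by
    haveI : IsIntegrallyClosed S := isIntegrallyClosed_of_isLocalization S p.primeCompl p.primeCompl_le_nonZeroDivisors
    haveI : Ring.KrullDimLE 1 S := by
      rw [Ring.krullDimLE_iff, IsLocalization.AtPrime.ringKrullDim_eq_height p S]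
      exact_mod_cast Ideal.height_le_one_of_isPrincipal_of_mem_minimalPrimes _ p hmin
    have hu : ∃! P : Ideal S, P ≠ ⊥ ∧ P.IsPrime := ⟨IsLocalRing.maximalIdeal S,
      ⟨fun h => hnfield (IsLocalRing.isField_iff_maximalIdeal_eq.mpr h), inferInstance⟩, fun q hq =>
        IsLocalRing.eq_maximalIdeal (Ring.krullDimLE_one_iff_of_noZeroDivisors.mp inferInstance q hq.1 hq.2)⟩
    have h := (IsDiscreteValuationRing.TFAE S hnfield).out 3 0 (a := IsIntegrallyClosed S ∧ ∃! P : Ideal S, P ≠ ⊥ ∧ P.IsPrime) (b := IsDiscreteValuationRing S)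
    exact h.mp ⟨inferInstance, hu⟩
  obtain ⟨τ, hτ⟩ := IsDiscreteValuationRing.exists_irreducible S
  obtain ⟨⟨t, st⟩, htst⟩ := IsLocalization.surj p.primeCompl τ
  have hu : ∀ s : p.primeCompl, IsUnit (algebraMap A S s) := fun s => IsLocalization.map_units S s
  have ht' : Irreducible (algebraMap A S t) := by
    rw [← htst, irreducible_mul_isUnit (hu st)]; exact hτ
  obtain ⟨r, v, hv⟩ := IsDiscreteValuationRing.eq_unit_mul_pow_irreducible
    (show algebraMap A S z ≠ 0 from fun h => hz0 ((FaithfulSMul.algebraMap_eq_zero_iff A S).mp h)) ht'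
  obtain ⟨⟨a, sv⟩, hav⟩ := IsLocalization.surj p.primeCompl (v : S)
  have hap : a ∉ p := by
    intro ha
    have h1 : IsUnit (algebraMap A S a) := by rw [← hav]; exact v.isUnit.mul (hu sv)
    exact ((IsLocalization.AtPrime.isUnit_to_map_iff S p a).mp h1) ha
  have heq : z * sv = a * t ^ r := by
    apply FaithfulSMul.algebraMap_injective A S
    rw [map_mul, map_mul, map_pow, hv, ← hav]
    ring
  have hgen : ∀ g ∈ p, ∃ s : p.primeCompl, t ∣ g * (s : A) := by
    intro g hg
    have h1 : algebraMap A S g ∈ IsLocalRing.maximalIdeal S :=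
      (IsLocalization.AtPrime.to_map_mem_maximal_iff S p g).mpr hg
    rw [(IsDiscreteValuationRing.irreducible_iff_uniformizer _).mp ht', Ideal.mem_span_singleton] at h1
    obtain ⟨q, hq⟩ := h1
    obtain ⟨⟨b, s⟩, hbs⟩ := IsLocalization.surj p.primeCompl q
    refine ⟨s, b, FaithfulSMul.algebraMap_injective A S ?_⟩
    rw [map_mul, map_mul, hq, ← hbs]
    ring
  choose! sg hsg using hgen
  obtain ⟨G, hG⟩ := IsNoetherian.noetherian p
  let w : A := (sv : A) * a * ∏ g ∈ G, (sg g : A)
  have hw : w ∉ p := by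
    have h1 : ∏ g ∈ G, (sg g : A) ∈ p.primeCompl := Submonoid.prod_mem _ fun g _ => (sg g).2
    exact mul_mem (mul_mem sv.2 (show a ∈ p.primeCompl from hap)) h1
  let T := Localization.Away w
  have hdvd : ∀ s : A, s ∣ w → IsUnit (algebraMap A T s) := fun s hs =>
    isUnit_of_dvd_unit (map_dvd _ hs) (IsLocalization.Away.algebraMap_isUnit w)
  have htp : t ∈ p := (IsLocalization.AtPrime.to_map_mem_maximal_iff S p t).mp ht'.not_isUnit
  refine ⟨w, t, r, hw, ?_, ?_⟩
  · haveI : IsDomain T := IsLocalization.isDomain_localization (powers_le_nonZeroDivisors_of_noZeroDivisors (fun h => hw (h ▸ p.zero_mem)))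
    show Ideal.span {algebraMap A T z} = Ideal.span {algebraMap A T t ^ r}
    rw [Ideal.span_singleton_eq_span_singleton]
    have h1 := congrArg (algebraMap A T) heq
    rw [map_mul, map_mul, map_pow] at h1
    exact (associated_mul_unit_right _ _ (hdvd sv ⟨a * ∏ g ∈ G, (sg g : A), by simp only [w]; ring⟩)).trans
      (h1 ▸ associated_unit_mul_left _ _ (hdvd a ⟨(sv : A) * ∏ g ∈ G, (sg g : A), by simp only [w]; ring⟩))
  · have : Ideal.span {algebraMap A T t} = p.map (algebraMap A T) := by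
      refine le_antisymm ((Ideal.span_singleton_le_iff_mem _).mpr (Ideal.mem_map_of_mem _ htp)) ?_
      rw [← hG, show Submodule.span A (G : Set A) = Ideal.span (G : Set A) from rfl, Ideal.map_span, Ideal.span_le]
      rintro _ ⟨g, hg, rfl⟩
      obtain ⟨q, hq⟩ := hsg g (hG ▸ Submodule.subset_span hg)
      have h1 := congrArg (algebraMap A T) hq
      rw [map_mul, map_mul] at h1
      refine Ideal.mem_span_singleton.mpr ?_
      exact (IsUnit.dvd_mul_right (hdvd (sg g) (dvd_mul_of_dvd_right (Finset.dvd_prod_of_mem _ hg) _))).mp ⟨_, h1⟩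
    show (Ideal.span {algebraMap A T t}).IsPrime
    rw [this]
    exact IsLocalization.isPrime_of_isPrime_disjoint (Submonoid.powers w) T p hz (Ideal.disjoint_powers_iff_notMem w hz.isRadical |>.mpr hw)

open PowerSeries in
theorem exists_pow_content {R : Type u} [CommRing R] [IsDomain R] [IsDiscreteValuationRing R] (ϖ : R)
    (hϖ : Irreducible ϖ) (F : PowerSeries R) (hF : F ≠ 0) :
    ∃ (μ : ℕ) (F' : PowerSeries R), F = C (ϖ ^ μ) * F' ∧ PowerSeries.map (IsLocalRing.residue R) F' ≠ 0 := by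
  obtain ⟨i, hi⟩ : ∃ i, coeff i F ≠ 0 := by
    by_contra h; push Not at h; exact hF (PowerSeries.ext fun i => by simpa using h i)
  obtain ⟨n, u, hn⟩ := IsDiscreteValuationRing.eq_unit_mul_pow_irreducible hi hϖ
  have hnd : ¬ ϖ ^ (n + 1) ∣ coeff i F := by
    rw [hn, pow_succ', Units.dvd_mul_left]
    intro h
    have : ϖ * ϖ ^ n ∣ 1 * ϖ ^ n := by rwa [one_mul]
    exact hϖ.not_isUnit (isUnit_of_dvd_one ((mul_dvd_mul_iff_right (pow_ne_zero _ hϖ.ne_zero)).mp this))
  clear hn hi hF u
  induction n generalizing F with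
  | zero =>
    refine ⟨0, F, by simp, fun h => hnd ?_⟩
    have h1 := congrArg (coeff i) h
    rw [coeff_map, map_zero, IsLocalRing.residue_eq_zero_iff,
      (IsDiscreteValuationRing.irreducible_iff_uniformizer ϖ).mp hϖ, Ideal.mem_span_singleton] at h1
    rwa [zero_add, pow_one]
  | succ n ih =>
    by_cases h : PowerSeries.map (IsLocalRing.residue R) F = 0
    · have h1 : ∀ j, ϖ ∣ coeff j F := fun j => by
        have h1 := congrArg (coeff j) h
        rwa [coeff_map, map_zero, IsLocalRing.residue_eq_zero_iff,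
          (IsDiscreteValuationRing.irreducible_iff_uniformizer ϖ).mp hϖ, Ideal.mem_span_singleton] at h1
      choose q hq using h1
      have hFq : F = C ϖ * PowerSeries.mk q := PowerSeries.ext fun j => by simp [hq j]
      obtain ⟨μ, F', e, hne⟩ := ih (PowerSeries.mk q) (fun hd => hnd (by
        rw [hq i, pow_succ' ϖ (n + 1)]
        exact mul_dvd_mul_left ϖ (by simpa using hd)))
      exact ⟨μ + 1, F', by rw [hFq, e, pow_succ', map_mul, mul_assoc], hne⟩
    · exact ⟨0, F, by simp, h⟩

open PowerSeries in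
theorem coeff_inverse_unbounded
    (R : Type u) [CommRing R] [IsDomain R] [IsDiscreteValuationRing R]
    (K : Type u) [Field K] [Algebra R K] [IsFractionRing R K]
    (f : Polynomial R) (h0 : f.coeff 0 ≠ 0) (hslope : ∃ i : ℕ, 0 < i ∧ ¬ (f.coeff 0 ∣ f.coeff i))
    (b : PowerSeries K)
    (hb : b * ((f.map (algebraMap R K) : Polynomial K) : PowerSeries K) = PowerSeries.C (algebraMap R K (f.coeff 0))) :
    ∀ c : R, c ≠ 0 → ∃ j : ℕ, algebraMap R K c * PowerSeries.coeff j b ∉ (algebraMap R K).range := by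
  intro c hc
  by_contra! h
  choose B hB using h
  have hinj := IsFractionRing.injective R K
  have hBf : PowerSeries.mk B * (f : PowerSeries R) = C (c * f.coeff 0) := by
    apply PowerSeries.map_injective _ hinj
    have h1 : PowerSeries.map (algebraMap R K) (PowerSeries.mk B) = C (algebraMap R K c) * b :=
      PowerSeries.ext fun j => by simp [hB j]
    rw [map_mul, h1, Polynomial.polynomial_map_coe.symm, map_C, map_mul, map_mul, mul_assoc, hb]
  obtain ⟨ϖ, hϖ⟩ := IsDiscreteValuationRing.exists_irreducible R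
  have hf0 : (f : PowerSeries R) ≠ 0 := fun h => h0 (by
    have := congrArg (coeff 0) h
    simpa using this)
  have hB0 : PowerSeries.mk B ≠ 0 := fun h => mul_ne_zero hc h0 (by
    rw [h, zero_mul] at hBf
    simpa using (congrArg (coeff 0) hBf).symm)
  obtain ⟨μ, F, hF, hFne⟩ := exists_pow_content ϖ hϖ _ hf0
  obtain ⟨ν, G, hG, hGne⟩ := exists_pow_content ϖ hϖ _ hB0
  have hGF : C (ϖ ^ (ν + μ)) * (G * F) = C (c * f.coeff 0) := by
    rw [← hBf, hF, hG, pow_add, map_mul]; ring
  have hd : G * F = C (coeff 0 (G * F)) := by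
    refine PowerSeries.ext fun j => ?_
    rcases Nat.eq_zero_or_pos j with rfl | hj
    · simp
    · have h1 := congrArg (coeff j) hGF
      simp only [coeff_C_mul, coeff_C, hj.ne', if_false, mul_eq_zero, pow_ne_zero _ hϖ.ne_zero, false_or] at h1
      simpa [coeff_C, hj.ne'] using h1
  have hu : IsUnit (coeff 0 (G * F)) := by
    by_contra hnu
    refine mul_ne_zero hGne hFne ?_
    rw [← map_mul, hd, map_C, (IsLocalRing.residue_eq_zero_iff _).mpr hnu, map_zero]
  rw [coeff_zero_eq_constantCoeff, map_mul] at hu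
  obtain ⟨i, -, hi⟩ := hslope
  refine hi ?_
  have hc : ∀ j, f.coeff j = ϖ ^ μ * coeff j F := fun j => by
    have := congrArg (coeff j) hF
    rwa [Polynomial.coeff_coe, coeff_C_mul] at this
  rw [hc i, hc 0, coeff_zero_eq_constantCoeff]
  exact mul_dvd_mul_left _ (IsUnit.dvd (isUnit_of_mul_isUnit_right hu))

end Groth.Agent.Elem8
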