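import Mathlib

set_option autoImplicit false
universe u v w

namespace Groth.Agent.Elem8
open LieModule Module

theorem sum_sq_weights (x : ℤ) (j : ℕ) :
    3 * ∑ i ∈ Finset.range j, (x - 2 * i) ^ 2 =
      3 * j * x ^ 2 - 6 * x * j * (j - 1) + 2 * j * (j - 1) * (2 * j - 1) := by
  induction j with
  | zero => simp
  | succ j ih => rw [Finset.sum_range_succ, mul_add, ih]; push_cast; ring

theorem sum_weights_eq (n : ℕ) :
    ∑ i ∈ Finset.range (n + 1), ((n : ℤ) - 2 * (i : ℤ)) ^ 2 = 2 * ((((n + 1) + 1).choose 3 : ℕ) : ℤ) := by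
  have h1 := sum_sq_weights n (n + 1)
  have h2 : 6 * (n + 2).choose 3 = (n + 2) * (n + 1) * n := by
    induction n with
    | zero => rfl
    | succ n ih =>
      have h3 : (n + 1 + 2).choose 3 = (n + 2).choose 2 + (n + 2).choose 3 := Nat.choose_succ_succ' (n + 2) 2
      have h4 : (n + 2).choose 2 * 2 = (n + 2) * (n + 1) := by
        rw [Nat.choose_two_right, Nat.div_mul_cancel (Nat.even_mul_pred_self (n + 2)).two_dvd]
        rfl
      rw [h3]
      nlinarith [ih (sum_sq_weights n (n + 1)), h4]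
  have h2' : 6 * (((n + 2).choose 3 : ℕ) : ℤ) = (n + 2) * (n + 1) * n := by exact_mod_cast h2
  push_cast at h1 ⊢
  rw [show n + 1 + 1 = n + 2 from rfl]
  refine mul_left_cancel₀ (three_ne_zero (α := ℤ)) ?_
  linear_combination h1 - h2'

theorem trace_h_sq_irreducible (k : Type u) [Field k] [IsAlgClosed k] [CharZero k]
    (L : Type v) [LieRing L] [LieAlgebra k L]
    {h e f : L} (t : IsSl2Triple h e f) (hspan : t.toLieSubalgebra k = ⊤)
    (M : Type w) [AddCommGroup M] [Module k M] [LieRingModule L M] [LieModule k L M]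
    [FiniteDimensional k M] [LieModule.IsIrreducible k L M] :
    LinearMap.trace k M ((LieModule.toEnd k L M h) ^ 2) = 2 * (((Module.finrank k M + 1).choose 3 : ℕ) : k) := by
  classical
  haveI : Nontrivial M := (LieSubmodule.nontrivial_iff k L M).mp inferInstance
  obtain ⟨μ, m, -, P⟩ := t.exists_hasPrimitiveVectorWith (R := k) (M := M)
  obtain ⟨n, rfl⟩ := P.exists_nat
  let ψ : Fin (n + 1) → M := fun i => ((toEnd k L M f) ^ (i : ℕ)) m
  have hne : ∀ i, ψ i ≠ 0 := fun i => P.pow_toEnd_f_ne_zero_of_eq_nat rfl (Nat.lt_succ_iff.mp i.2)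
  have hh : ∀ i, ⁅h, ψ i⁆ = ((n : k) - 2 * (i : ℕ)) • ψ i := fun i => P.lie_h_pow_toEnd_f i
  have hind : LinearIndependent k ψ := by
    refine Module.End.eigenvectors_linearIndependent' (toEnd k L M h) (fun i : Fin (n + 1) => (n : k) - 2 * (i : ℕ)) ?_ ψ ?_
    · intro a b hab
      have hab' : ((a : ℕ) : k) = (b : ℕ) := mul_left_cancel₀ (two_ne_zero (α := k)) (sub_right_inj.mp hab)
      exact Fin.ext (by exact_mod_cast hab')
    · intro i
      exact Module.End.hasEigenvector_iff.mpr ⟨Module.End.mem_eigenspace_iff.mpr (hh i), hne i⟩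
  let S : Submodule k M := Submodule.span k (Set.range ψ)
  have hmem : ∀ j : ℕ, ((toEnd k L M f) ^ j) m ∈ S := by
    intro j
    by_cases hj : j < n + 1
    · exact Submodule.subset_span ⟨⟨j, hj⟩, rfl⟩
    · obtain ⟨d, rfl⟩ := Nat.exists_eq_add_of_le (not_lt.mp hj)
      rw [show n + 1 + d = d + (n + 1) by omega, pow_add, Module.End.mul_apply, P.pow_toEnd_f_eq_zero_of_eq_nat rfl, map_zero]
      exact S.zero_mem
  have hf : ∀ i, ⁅f, ψ i⁆ ∈ S := fun i => by rw [P.lie_f_pow_toEnd_f]; exact hmem _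
  have he : ∀ i, ⁅e, ψ i⁆ ∈ S := by
    rintro ⟨_ | j, hj⟩
    · simp [ψ, P.lie_e]
    · show ⁅e, ((toEnd k L M f) ^ (j + 1)) m⁆ ∈ S
      rw [P.lie_e_pow_succ_toEnd_f]
      exact S.smul_mem _ (hmem j)
  let N : LieSubmodule k L M :=
    { S with
      lie_mem := by
        intro x y hy
        have hx : x ∈ t.toLieSubalgebra k := hspan ▸ LieSubalgebra.mem_top x
        obtain ⟨c₁, c₂, c₃, rfl⟩ := IsSl2Triple.mem_toLieSubalgebra_iff.mp hx
        change y ∈ S at hy
        show ⁅c₁ • e + c₂ • f + c₃ • ⁅e, f⁆, y⁆ ∈ S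
        induction hy using Submodule.span_induction with
        | mem y hy =>
          obtain ⟨i, rfl⟩ := hy
          rw [add_lie, add_lie, smul_lie, smul_lie, smul_lie, t.lie_e_f, hh]
          exact S.add_mem (S.add_mem (S.smul_mem _ (he i)) (S.smul_mem _ (hf i)))
            (S.smul_mem _ (S.smul_mem _ (Submodule.subset_span ⟨i, rfl⟩)))
        | zero => rw [lie_zero]; exact S.zero_mem
        | add p q _ _ hp hq => rw [lie_add]; exact S.add_mem hp hq
        | smul a p _ hp => rw [lie_smul]; exact S.smul_mem _ hp }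
  have hNtop : N = ⊤ := by
    rcases eq_bot_or_eq_top N with hb | ht
    · exfalso
      have h0 : ψ 0 ∈ N := Submodule.subset_span ⟨0, rfl⟩
      rw [hb, LieSubmodule.mem_bot] at h0
      exact hne 0 h0
    · exact ht
  have htop : ⊤ ≤ Submodule.span k (Set.range ψ) := fun x _ => by
    have : x ∈ N := hNtop ▸ LieSubmodule.mem_top x
    exact this
  let b := Module.Basis.mk hind htop
  have hrank : Module.finrank k M = n + 1 := by rw [Module.finrank_eq_card_basis b, Fintype.card_fin]
  rw [hrank, LinearMap.trace_eq_matrix_trace k b, Matrix.trace]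
  have hdiag : ∀ i : Fin (n + 1), LinearMap.toMatrix b b ((toEnd k L M h) ^ 2) i i = ((((n : ℤ) - 2 * (i : ℕ)) ^ 2 : ℤ) : k) := by
    intro i
    rw [LinearMap.toMatrix_apply, pow_two, Module.End.mul_apply]
    have hb : (b i : M) = ψ i := Module.Basis.mk_apply _ _ _
    simp only [toEnd_apply_apply, hb, hh, lie_smul, smul_smul]
    rw [← hb, map_smul, Finsupp.smul_apply, b.repr_self, Finsupp.single_eq_same, smul_eq_mul, mul_one]
    push_cast
    ring
  simp only [Matrix.diag_apply, hdiag]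
  rw [← Int.cast_sum, Fin.sum_univ_eq_sum_range (fun i : ℕ => ((n : ℤ) - 2 * (i : ℕ)) ^ 2), sum_weights_eq]
  push_cast
  ring

theorem trace_h_sq (k : Type u) [Field k] [IsAlgClosed k] [CharZero k]
    (L : Type v) [LieRing L] [LieAlgebra k L]
    {h e f : L} (t : IsSl2Triple h e f) (hspan : t.toLieSubalgebra k = ⊤)
    (V : Type w) [AddCommGroup V] [Module k V] [LieRingModule L V] [LieModule k L V]
    [FiniteDimensional k V]
    (ι : Type) [Fintype ι] [DecidableEq ι] (W : ι → LieSubmodule k L V)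
    (hW : DirectSum.IsInternal fun i => (W i).toSubmodule)
    (hirr : ∀ i, LieModule.IsIrreducible k L (W i)) :
    LinearMap.trace k V ((LieModule.toEnd k L V h) ^ 2) =
      2 * ∑ i, (((Module.finrank k (W i) + 1).choose 3 : ℕ) : k) := by
  have hmaps : ∀ i, Set.MapsTo ⇑((LieModule.toEnd k L V h) ^ 2) ((W i).toSubmodule : Set V) ((W i).toSubmodule : Set V) := by
    intro i x hx
    rw [pow_two, Module.End.mul_apply]
    exact (W i).lie_mem ((W i).lie_mem hx)
  rw [LinearMap.trace_eq_sum_trace_restrict hW hmaps, Finset.mul_sum]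
  refine Finset.sum_congr rfl fun i _ => ?_
  haveI := hirr i
  have hres : ((LieModule.toEnd k L V h) ^ 2).restrict (hmaps i) = (LieModule.toEnd k L (W i) h) ^ 2 :=
    LinearMap.ext fun x => Subtype.ext (by simp [pow_two]; rfl)
  rw [hres]
  exact trace_h_sq_irreducible k L t hspan (W i)

end Groth.Agent.Elem8
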