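import Mathlib

set_option autoImplicit false

namespace Groth.Agent.Elem8
open Matrix

variable {p : ℕ} [Fact p.Prime]

theorem gl2_top_imp (H : Subgroup (GL (Fin 2) (ZMod p)))
    (C : Subgroup (GL (Fin 2) (ZMod p))) (E : Subring (Matrix (Fin 2) (Fin 2) (ZMod p)))
    (hCH : C ≤ H) (hE : IsField E) (hcard : Nat.card E = p ^ 2)
    (hEC : (E : Set (Matrix (Fin 2) (Fin 2) (ZMod p))) =
      insert 0 ((fun g : GL (Fin 2) (ZMod p) => (g : Matrix (Fin 2) (Fin 2) (ZMod p))) ''
        (C : Set (GL (Fin 2) (ZMod p)))))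
    (hp : p ∣ Nat.card H) : H = ⊤ := by
  classical
  have hmem : ∀ e ∈ E, e ≠ 0 → ∃ g ∈ H, (g : Matrix (Fin 2) (Fin 2) (ZMod p)) = e := by
    intro e he hne
    have h : e ∈ (E : Set (Matrix (Fin 2) (Fin 2) (ZMod p))) := he
    rw [hEC] at h
    obtain ⟨g, hg, hge⟩ := h.resolve_left hne
    exact ⟨g, hCH hg, hge⟩
  have horb : ∀ v : Fin 2 → ZMod p, v ≠ 0 → ∀ w, ∃ e ∈ E, e *ᵥ v = w := by
    intro v hv
    have hinj : Function.Injective (fun e : E => (e : Matrix (Fin 2) (Fin 2) (ZMod p)) *ᵥ v) := by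
      intro a b hab
      by_contra hne
      obtain ⟨g, -, hg⟩ := hmem _ (a - b).2 (by
        intro h0; exact hne (sub_eq_zero.mp (Subtype.ext h0)))
      have h0 : ((a - b : E) : Matrix (Fin 2) (Fin 2) (ZMod p)) *ᵥ v = 0 := by
        rw [show ((a - b : E) : Matrix (Fin 2) (Fin 2) (ZMod p)) = (a : Matrix (Fin 2) (Fin 2) (ZMod p)) - b from rfl, Matrix.sub_mulVec]; exact sub_eq_zero.mpr hab
      rw [← hg] at h0
      apply hv
      have := congrArg (fun z => ((g⁻¹ : GL (Fin 2) (ZMod p)) : Matrix (Fin 2) (Fin 2) (ZMod p)) *ᵥ z) h0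
      simp only [Matrix.mulVec_mulVec, Matrix.mulVec_zero] at this
      rwa [← Units.val_mul, inv_mul_cancel, Units.val_one, Matrix.one_mulVec] at this
    have hsurj : Function.Surjective (fun e : E => (e : Matrix (Fin 2) (Fin 2) (ZMod p)) *ᵥ v) := by
      refine (hinj.bijective_of_nat_card_le ?_).2
      rw [hcard, Nat.card_fun, Nat.card_fin, Nat.card_zmod]
    intro w
    obtain ⟨e, he⟩ := hsurj w
    exact ⟨e, e.2, he⟩
  obtain ⟨g0, hg0⟩ := exists_prime_orderOf_dvd_card' (G := H) p hp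
  obtain ⟨⟨g, hgH⟩, hord⟩ : ∃ g : H, orderOf g = p := ⟨g0, hg0⟩
  rw [← Subgroup.orderOf_coe] at hord
  simp only at hord
  set N : Matrix (Fin 2) (Fin 2) (ZMod p) := (g : Matrix (Fin 2) (Fin 2) (ZMod p)) - 1 with hN
  have hN0 : N ≠ 0 := by
    intro h
    have : g = 1 := Units.ext (sub_eq_zero.mp h)
    rw [this, orderOf_one] at hord
    exact (Fact.out : p.Prime).one_lt.ne hord
  have hNnil : IsNilpotent N := by
    refine ⟨p, ?_⟩
    have hgp : g ^ p = 1 := orderOf_dvd_iff_pow_eq_one.mp (dvd_of_eq hord)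
    rw [hN, sub_pow_char_of_commute _ (Commute.one_right _), one_pow, ← Units.val_pow_eq_pow_val, hgp,
      Units.val_one, sub_self]
  have hN2 : N * N = 0 := by
    have h := (Matrix.isNilpotent_charpoly_sub_pow_of_isNilpotent hNnil)
    have h' : N.charpoly = Polynomial.X ^ 2 := by
      have := isNilpotent_iff_eq_zero.mp h
      simpa [sub_eq_zero] using this
    have h2 := Matrix.aeval_self_charpoly N
    rw [h', map_pow, Polynomial.aeval_X, pow_two] at h2
    exact h2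
  obtain ⟨w, hw⟩ : ∃ w, N *ᵥ w ≠ 0 := by
    by_contra! h
    exact hN0 (Matrix.mulVec_injective (funext fun w => by rw [h w, Matrix.zero_mulVec]))
  have hconj : ∀ t : Fin 2 → ZMod p, t ≠ 0 → ∃ (h : GL (Fin 2) (ZMod p)) (z : Fin 2 → ZMod p), h ∈ H ∧
      ((h : Matrix (Fin 2) (Fin 2) (ZMod p)) - 1) *ᵥ t = 0 ∧ ((h : Matrix (Fin 2) (Fin 2) (ZMod p)) - 1) *ᵥ z = t := by
    intro t ht
    obtain ⟨e, he, het⟩ := horb _ hw t
    obtain ⟨c, hc, rfl⟩ := hmem e he (by rintro rfl; rw [Matrix.zero_mulVec] at het; exact ht het.symm)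
    have hconj : (((c * g * c⁻¹ : GL (Fin 2) (ZMod p))) : Matrix (Fin 2) (Fin 2) (ZMod p)) - 1 =
        (c : Matrix (Fin 2) (Fin 2) (ZMod p)) * N * ((c⁻¹ : GL (Fin 2) (ZMod p)) : Matrix (Fin 2) (Fin 2) (ZMod p)) := by
      simp only [hN, mul_sub, sub_mul, mul_one, Units.val_mul]
      rw [← Units.val_mul c c⁻¹, mul_inv_cancel, Units.val_one]
    have hci : ((c⁻¹ : GL (Fin 2) (ZMod p)) : Matrix (Fin 2) (Fin 2) (ZMod p)) * (c : Matrix (Fin 2) (Fin 2) (ZMod p)) = 1 := by
      rw [← Units.val_mul, inv_mul_cancel, Units.val_one]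
    refine ⟨c * g * c⁻¹, (c : Matrix (Fin 2) (Fin 2) (ZMod p)) *ᵥ w, H.mul_mem (H.mul_mem hc hgH) (H.inv_mem hc), ?_, ?_⟩
    · rw [hconj, ← het, Matrix.mulVec_mulVec, Matrix.mul_assoc _ _ (c : Matrix (Fin 2) (Fin 2) (ZMod p)), hci, mul_one,
        Matrix.mulVec_mulVec, Matrix.mul_assoc, hN2, mul_zero, Matrix.zero_mulVec]
    · rw [hconj, Matrix.mulVec_mulVec, Matrix.mul_assoc _ _ (c : Matrix (Fin 2) (Fin 2) (ZMod p)), hci, mul_one,
        ← Matrix.mulVec_mulVec, het]
  have hall : ∀ (h : GL (Fin 2) (ZMod p)) (u : ZMod p), h ∈ H →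
      ((h : Matrix (Fin 2) (Fin 2) (ZMod p)) - 1) * ((h : Matrix (Fin 2) (Fin 2) (ZMod p)) - 1) = 0 →
      ∃ h' ∈ H, ((h' : GL (Fin 2) (ZMod p)) : Matrix (Fin 2) (Fin 2) (ZMod p)) =
        1 + u • ((h : Matrix (Fin 2) (Fin 2) (ZMod p)) - 1) := by
    intro h u hh hsq
    refine ⟨h ^ u.val, H.pow_mem hh _, ?_⟩
    have key : ∀ n : ℕ, ((h : Matrix (Fin 2) (Fin 2) (ZMod p))) ^ n = 1 + (n : ZMod p) • ((h : Matrix (Fin 2) (Fin 2) (ZMod p)) - 1) := by
      intro n
      induction n with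
      | zero => simp
      | succ n ih =>
        conv_lhs => rw [pow_succ, ih, show (h : Matrix (Fin 2) (Fin 2) (ZMod p)) = 1 + ((h : Matrix (Fin 2) (Fin 2) (ZMod p)) - 1) by abel]
        rw [mul_add, mul_one, add_mul, one_mul, smul_mul_assoc, add_sub_cancel_left, hsq, smul_zero, add_zero,
          Nat.cast_add, Nat.cast_one, add_smul, one_smul, add_assoc]
    rw [Units.val_pow_eq_pow_val, key, ZMod.natCast_zmod_val]
  have hU : ∀ u : ZMod p, ∃ h ∈ H, ((h : GL (Fin 2) (ZMod p)) : Matrix (Fin 2) (Fin 2) (ZMod p)) = !![1, u; 0, 1] := by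
    intro u
    obtain ⟨h, z, hh, h1, h2⟩ := hconj ![1, 0] (by simp)
    set D := (h : Matrix (Fin 2) (Fin 2) (ZMod p)) - 1
    have a := congrFun h1 0; have b := congrFun h1 1; have c := congrFun h2 0; have d := congrFun h2 1
    simp [Matrix.mulVec, dotProduct, Fin.sum_univ_two] at a b c d
    rw [a, zero_mul, zero_add] at c
    rw [b, zero_mul, zero_add] at d
    have hd : D 0 1 ≠ 0 := left_ne_zero_of_mul_eq_one c
    have hd' : D 1 1 = 0 := (mul_eq_zero.mp d).resolve_right (right_ne_zero_of_mul_eq_one c)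
    obtain ⟨h', hh', e⟩ := hall h (u / D 0 1) hh (by
      change D * D = 0
      ext i j; fin_cases i <;> fin_cases j <;> simp [Matrix.mul_apply, Fin.sum_univ_two, a, b, hd'])
    refine ⟨h', hh', e.trans ?_⟩
    change 1 + (u / D 0 1) • D = _
    ext i j; fin_cases i <;> fin_cases j <;> simp [a, b, hd', hd]
  have hL : ∀ u : ZMod p, ∃ h ∈ H, ((h : GL (Fin 2) (ZMod p)) : Matrix (Fin 2) (Fin 2) (ZMod p)) = !![1, 0; u, 1] := by
    intro u
    obtain ⟨h, z, hh, h1, h2⟩ := hconj ![0, 1] (by simp)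
    set D := (h : Matrix (Fin 2) (Fin 2) (ZMod p)) - 1
    have a := congrFun h1 0; have b := congrFun h1 1; have c := congrFun h2 0; have d := congrFun h2 1
    simp [Matrix.mulVec, dotProduct, Fin.sum_univ_two] at a b c d
    rw [a, zero_mul, add_zero] at c
    rw [b, zero_mul, add_zero] at d
    have hd : D 1 0 ≠ 0 := left_ne_zero_of_mul_eq_one d
    have hd' : D 0 0 = 0 := (mul_eq_zero.mp c).resolve_right (right_ne_zero_of_mul_eq_one d)
    obtain ⟨h', hh', e⟩ := hall h (u / D 1 0) hh (by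
      change D * D = 0
      ext i j; fin_cases i <;> fin_cases j <;> simp [Matrix.mul_apply, Fin.sum_univ_two, a, b, hd'])
    refine ⟨h', hh', e.trans ?_⟩
    change 1 + (u / D 1 0) • D = _
    ext i j; fin_cases i <;> fin_cases j <;> simp [a, b, hd', hd]
  have hSL' : ∀ M : GL (Fin 2) (ZMod p), (M : Matrix (Fin 2) (Fin 2) (ZMod p)) 1 0 ≠ 0 →
      (M : Matrix (Fin 2) (Fin 2) (ZMod p)).det = 1 → M ∈ H := by
    intro M hc hdet
    rw [Matrix.det_fin_two] at hdet
    set A := (M : Matrix (Fin 2) (Fin 2) (ZMod p))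
    obtain ⟨x, hx, ex⟩ := hU ((A 0 0 - 1) / A 1 0)
    obtain ⟨y, hy, ey⟩ := hL (A 1 0)
    obtain ⟨z, hz, ez⟩ := hU ((A 1 1 - 1) / A 1 0)
    convert H.mul_mem (H.mul_mem hx hy) hz
    apply Units.ext
    change A = _
    rw [Units.val_mul, Units.val_mul, ex, ey, ez]
    have h01 : A 0 1 = (A 0 0 * A 1 1 - 1) / A 1 0 := by
      rw [eq_div_iff hc]; linear_combination -hdet
    ext i j; fin_cases i <;> fin_cases j <;>
      · simp [h01]
        try (field_simp; ring)
  have hSL : ∀ M : GL (Fin 2) (ZMod p), (M : Matrix (Fin 2) (Fin 2) (ZMod p)).det = 1 → M ∈ H := by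
    intro M hdet
    by_cases hc : (M : Matrix (Fin 2) (Fin 2) (ZMod p)) 1 0 = 0
    · obtain ⟨y, hy, ey⟩ := hL 1
      have h11 : (M : Matrix (Fin 2) (Fin 2) (ZMod p)) 1 1 ≠ 0 := by
        intro h
        rw [Matrix.det_fin_two, h, hc] at hdet
        simp at hdet
      have := hSL' (M * y) (by
        rw [Units.val_mul, ey]; simp [Matrix.mul_apply, Fin.sum_univ_two, hc, h11]) (by
        rw [Units.val_mul, Matrix.det_mul, hdet, ey]; simp [Matrix.det_fin_two])
      exact (H.mul_mem_cancel_right hy).mp this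
    · exact hSL' M hc hdet
  have hdet : ∀ x : ZMod p, x ≠ 0 → ∃ h ∈ H, ((h : GL (Fin 2) (ZMod p)) : Matrix (Fin 2) (Fin 2) (ZMod p)).det = x := by
    intro x hx
    by_cases hp2 : p = 2
    · subst hp2
      refine ⟨1, H.one_mem, ?_⟩
      rw [Units.val_one, Matrix.det_one]
      exact (Fin.eq_one_of_ne_zero x hx).symm
    obtain ⟨α, hα, hα'⟩ := horb ![1, 0] (by simp) ![0, 1]
    have a := congrFun hα' 0; have b := congrFun hα' 1
    simp [Matrix.mulVec, dotProduct, Fin.sum_univ_two] at a b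
    set β := α 0 1
    set γ := α 1 1
    have hE' : ∀ s t : ZMod p, s • (1 : Matrix (Fin 2) (Fin 2) (ZMod p)) + t • α ∈ E := by
      intro s t
      rw [← ZMod.natCast_zmod_val s, ← ZMod.natCast_zmod_val t, Nat.cast_smul_eq_nsmul, Nat.cast_smul_eq_nsmul]
      exact E.add_mem (E.nsmul_mem E.one_mem _) (E.nsmul_mem hα _)
    have h2 : (2 : ZMod p) ≠ 0 := by
      intro h
      have h' : ((2 : ℕ) : ZMod p) = 0 := by exact_mod_cast h
      rw [ZMod.natCast_eq_zero_iff] at h'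
      exact hp2 ((Nat.prime_dvd_prime_iff_eq Fact.out Nat.prime_two).mp h')
    have hdetform : ∀ u t : ZMod p, ((u - γ * t / 2) • (1 : Matrix (Fin 2) (Fin 2) (ZMod p)) + t • α).det =
        u ^ 2 - (β + γ ^ 2 / 4) * t ^ 2 := by
      intro u t
      have h4 : (4 : ZMod p) ≠ 0 := by rw [show (4 : ZMod p) = 2 * 2 by norm_num]; exact mul_ne_zero h2 h2
      rw [Matrix.det_fin_two]
      simp [a, b, β, γ]
      field_simp
      ring
    have hδ : β + γ ^ 2 / 4 ≠ 0 := by
      intro h0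
      have h1 := hdetform 0 1
      rw [h0] at h1
      obtain ⟨c, -, hc⟩ := hmem _ (hE' (0 - γ * 1 / 2) 1) (fun h => by
        have := congrFun (congrFun h 1) 0
        simp [b] at this)
      rw [← hc] at h1
      exact (Matrix.GeneralLinearGroup.det c).ne_zero (by
        show (c : Matrix (Fin 2) (Fin 2) (ZMod p)).det = 0
        rw [h1]; ring)
    obtain ⟨u, t, hut⟩ := FiniteField.exists_root_sum_quadratic (R := ZMod p)
      (f := Polynomial.X ^ 2 - Polynomial.C x) (g := Polynomial.C (-(β + γ ^ 2 / 4)) * Polynomial.X ^ 2)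
      (Polynomial.degree_X_pow_sub_C two_pos x) (Polynomial.degree_C_mul_X_pow 2 (neg_ne_zero.mpr hδ))
      (by rw [ZMod.card]; exact (Nat.Prime.odd_of_ne_two Fact.out hp2).elim fun k hk => by omega)
    simp at hut
    have hval : u ^ 2 - (β + γ ^ 2 / 4) * t ^ 2 = x := by linear_combination hut
    obtain ⟨c, hc, hce⟩ := hmem _ (hE' (u - γ * t / 2) t) (fun h => by
      have h1 := hdetform u t
      rw [h, hval, Matrix.det_zero] at h1
      exact hx h1.symm)
    exact ⟨c, hc, by rw [hce, hdetform, hval]⟩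
  rw [eq_top_iff]
  intro M _
  obtain ⟨c, hc, hce⟩ := hdet _ (Matrix.GeneralLinearGroup.det M).ne_zero
  have : c⁻¹ * M ∈ H := hSL _ (by
    rw [Units.val_mul, Matrix.det_mul]
    have h1 : ((c⁻¹ : GL (Fin 2) (ZMod p)) : Matrix (Fin 2) (Fin 2) (ZMod p)).det * (c : Matrix (Fin 2) (Fin 2) (ZMod p)).det = 1 := by
      rw [← Matrix.det_mul, ← Units.val_mul, inv_mul_cancel, Units.val_one, Matrix.det_one]
    rw [hce] at h1
    exact h1)
  simpa using H.mul_mem hc this

theorem gl2_eq_top_iff (p : ℕ) [Fact p.Prime] (H : Subgroup (GL (Fin 2) (ZMod p))) :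
    H = ⊤ ↔
      (∃ (C : Subgroup (GL (Fin 2) (ZMod p))) (E : Subring (Matrix (Fin 2) (Fin 2) (ZMod p))),
          C ≤ H ∧ IsField E ∧ Nat.card E = p ^ 2 ∧
            (E : Set (Matrix (Fin 2) (Fin 2) (ZMod p))) =
              insert 0 ((fun g : GL (Fin 2) (ZMod p) => (g : Matrix (Fin 2) (Fin 2) (ZMod p))) ''
                (C : Set (GL (Fin 2) (ZMod p))))) ∧
        p ∣ Nat.card H := by
  refine ⟨?_, fun ⟨⟨C, E, h1, h2, h3, h4⟩, h5⟩ => gl2_top_imp H C E h1 h2 h3 h4 h5⟩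
  rintro rfl
  refine ⟨?_, ?_⟩
  · let F := GaloisField p 2
    have hdim : Module.finrank (ZMod p) F = 2 := GaloisField.finrank p two_ne_zero
    let b : Module.Basis (Fin 2) (ZMod p) F := (Module.finBasis (ZMod p) F).reindex (finCongr hdim)
    let φ : F →+* Matrix (Fin 2) (Fin 2) (ZMod p) := (Algebra.leftMulMatrix b).toRingHom
    have hinj : Function.Injective φ := Algebra.leftMulMatrix_injective b
    let Φ : Fˣ →* GL (Fin 2) (ZMod p) := Units.map φ.toMonoidHom
    refine ⟨Φ.range, φ.range, le_top, ?_, ?_, ?_⟩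
    · exact MulEquiv.isField (Field.toIsField F) (RingEquiv.ofBijective φ.rangeRestrict
        ⟨fun a b h => hinj (congrArg Subtype.val h), φ.rangeRestrict_surjective⟩).symm.toMulEquiv
    · rw [← GaloisField.card p 2 two_ne_zero]
      exact (Nat.card_congr (Equiv.ofBijective φ.rangeRestrict
        ⟨fun a b h => hinj (congrArg Subtype.val h), φ.rangeRestrict_surjective⟩)).symm
    · ext M
      constructor
      · rintro ⟨a, rfl⟩
        rcases eq_or_ne a 0 with rfl | ha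
        · exact Set.mem_insert_iff.mpr (Or.inl (map_zero φ))
        · exact Set.mem_insert_iff.mpr (Or.inr ⟨Φ (Units.mk0 a ha), ⟨_, rfl⟩, rfl⟩)
      · rintro (rfl | ⟨_, ⟨u, rfl⟩, rfl⟩)
        · exact φ.range.zero_mem
        · exact ⟨(u : F), rfl⟩
  · let T : Matrix (Fin 2) (Fin 2) (ZMod p) := !![1, 1; 0, 1]
    let g : GL (Fin 2) (ZMod p) := Matrix.GeneralLinearGroup.mkOfDetNeZero T (by simp [T, Matrix.det_fin_two])
    have hpow : ∀ n : ℕ, T ^ n = !![1, (n : ZMod p); 0, 1] := by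
      intro n
      induction n with
      | zero => ext i j; fin_cases i <;> fin_cases j <;> simp
      | succ n ih => rw [pow_succ, ih]; ext i j; fin_cases i <;> fin_cases j <;> simp [T, add_comm]
    have hord : orderOf g = p := by
      refine orderOf_eq_prime (Units.ext ?_) ?_
      · show T ^ p = 1
        rw [hpow, ZMod.natCast_self]
        ext i j; fin_cases i <;> fin_cases j <;> simp
      · intro h
        have := congrFun (congrFun (congrArg (fun z : GL (Fin 2) (ZMod p) => (z : Matrix (Fin 2) (Fin 2) (ZMod p))) h) 0) 1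
        simp [g, T] at this
    rw [Subgroup.card_top]
    exact (dvd_of_eq hord.symm).trans (orderOf_dvd_natCard g)

end Groth.Agent.Elem8
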